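import Mathlib.AlgebraicGeometry.Morphisms.Flat
import Mathlib.AlgebraicGeometry.Stalk

/-! The local ring of a fibre product is flat over the tensor product of the local rings. -/

set_option linter.style.haveILetI false

universe u

open CategoryTheory CategoryTheory.Limits AlgebraicGeometry

namespace Groth.Agent.KSix54.Pull

lemma flat_fromSpecStalk {X : Scheme.{u}} (x : X) : Flat (X.fromSpecStalk x) := by
  obtain ⟨U, hU, hxU, -⟩ :=
    exists_isAffineOpen_mem_and_subset (X := X) (x := x) (U := ⊤) trivial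
  rw [← hU.fromSpecStalk_eq_fromSpecStalk hxU]
  haveI : Flat (Spec.map (X.presheaf.germ U x hxU)) := by
    rw [HasRingHomProperty.Spec_iff (P := @Flat)]
    letI := (X.presheaf.germ U x hxU).hom.toAlgebra
    haveI : IsLocalization.AtPrime (X.presheaf.stalk x) (hU.primeIdealOf ⟨x, hxU⟩).asIdeal :=
      hU.isLocalization_stalk ⟨x, hxU⟩
    exact IsLocalization.flat (X.presheaf.stalk x) (hU.primeIdealOf ⟨x, hxU⟩).asIdeal.primeCompl
  exact inferInstanceAs (Flat (Spec.map (X.presheaf.germ U x hxU) ≫ hU.fromSpec))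

variable {X Y X' Y' : Scheme.{u}} {f : X ⟶ Y} {h : Y' ⟶ Y} {g : X' ⟶ X} {f' : X' ⟶ Y'}

/-- The comparison from the pushout of the local rings to the local ring of the fibre product is flat. -/
theorem flat_of_pushout_stalk (hc : IsPullback g f' f h) (z : X')
    {φ : Y.presheaf.stalk (f (g z)) ⟶ Y'.presheaf.stalk (f' z)}
    (hφ : Spec.map φ ≫ Y.fromSpecStalk (f (g z)) = Y'.fromSpecStalk (f' z) ≫ h)
    {T : CommRingCat.{u}} {inl : X.presheaf.stalk (g z) ⟶ T} {inr : Y'.presheaf.stalk (f' z) ⟶ T}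
    (hT : IsPushout (f.stalkMap (g z)) φ inl inr) {σ : T ⟶ X'.presheaf.stalk z}
    (hl : inl ≫ σ = g.stalkMap z) (hr : inr ≫ σ = f'.stalkMap z) : σ.hom.Flat := by
  have hS := isPullback_SpecMap_of_isPushout _ _ _ _ hT
  have hw : (Spec.map inl ≫ X.fromSpecStalk (g z)) ≫ f = (Spec.map inr ≫ Y'.fromSpecStalk (f' z)) ≫ h := by
    rw [Category.assoc, Category.assoc, ← hφ, ← Scheme.SpecMap_stalkMap_fromSpecStalk,
      ← Category.assoc, ← Category.assoc, hS.w]
  let Φ : Spec T ⟶ X' := hc.lift _ _ hw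
  have h1 : Φ ≫ g = Spec.map inl ≫ X.fromSpecStalk (g z) := hc.lift_fst _ _ _
  have h2 : Φ ≫ f' = Spec.map inr ≫ Y'.fromSpecStalk (f' z) := hc.lift_snd _ _ _
  haveI : Mono Φ := ⟨fun {W} u v huv => by
    refine hS.hom_ext ((cancel_mono (X.fromSpecStalk (g z))).1 ?_)
      ((cancel_mono (Y'.fromSpecStalk (f' z))).1 ?_)
    · rw [Category.assoc, Category.assoc, ← h1, ← Category.assoc, ← Category.assoc, huv]
    · rw [Category.assoc, Category.assoc, ← h2, ← Category.assoc, ← Category.assoc, huv]⟩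
  have hσ : Spec.map σ ≫ Φ = X'.fromSpecStalk z := by
    apply hc.hom_ext
    · rw [Category.assoc, h1, ← Spec.map_comp_assoc, hl, Scheme.SpecMap_stalkMap_fromSpecStalk]
    · rw [Category.assoc, h2, ← Spec.map_comp_assoc, hr, Scheme.SpecMap_stalkMap_fromSpecStalk]
  have hsq : IsPullback (𝟙 _) (Spec.map σ) (X'.fromSpecStalk z) Φ :=
    IsPullback.of_horiz_isIso_mono ⟨by rw [Category.id_comp, hσ]⟩
  haveI : Flat (Spec.map σ) := MorphismProperty.of_isPullback hsq (flat_fromSpecStalk z)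
  exact (HasRingHomProperty.Spec_iff (P := @Flat)).1 inferInstance

end Groth.Agent.KSix54.Pull
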