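import Groth.Agent.KSix54.Pull.BCRing
import Groth.Agent.KSix54.Pull.BCStalk

/-! Base change of relative tor amplitude. -/

set_option linter.style.haveILetI false

universe u

open CategoryTheory CategoryTheory.Limits AlgebraicGeometry

attribute [local instance] HasDerivedCategory.standard

namespace Groth.Agent.KSix54.Pull

open Groth.Agent.KFlatLib Groth.Agent.H9Misc

variable {X Y X' Y' : Scheme.{u}} {f : X ⟶ Y} {h : Y' ⟶ Y} {g : X' ⟶ X} {f' : X' ⟶ Y'}

/-- The map of local rings of the bases. -/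
noncomputable def bcMap (hc : IsPullback g f' f h) (z : X') :
    Y.presheaf.stalk (f (g z)) ⟶ Y'.presheaf.stalk (f' z) :=
  Y.presheaf.stalkSpecializes (specializes_of_eq
    (show h (f' z) = f (g z) from (congrArg (fun q => q.base z) hc.w).symm)) ≫
    h.stalkMap (f' z)

lemma bcMap_fromSpecStalk (hc : IsPullback g f' f h) (z : X') :
    Spec.map (bcMap hc z) ≫ Y.fromSpecStalk (f (g z)) = Y'.fromSpecStalk (f' z) ≫ h := by
  rw [bcMap, Spec.map_comp, Category.assoc, Scheme.SpecMap_stalkSpecializes_fromSpecStalk,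
    Scheme.SpecMap_stalkMap_fromSpecStalk]

lemma bcMap_comm (hc : IsPullback g f' f h) (z : X') :
    f.stalkMap (g z) ≫ g.stalkMap z = bcMap hc z ≫ f'.stalkMap z := by
  rw [bcMap, Category.assoc, ← Scheme.Hom.stalkMap_comp, ← Scheme.Hom.stalkMap_comp,
    Scheme.Hom.stalkMap_congr_hom _ _ hc.w]
  rfl

lemma flat_bcMap [Flat h] (hc : IsPullback g f' f h) (z : X') : (bcMap hc z).hom.Flat := by
  have e : f (g z) = h (f' z) := congrArg (fun q => q.base z) hc.w
  haveI : IsIso (Y.presheaf.stalkSpecializes (specializes_of_eq e.symm)) :=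
    ⟨Y.presheaf.stalkSpecializes (specializes_of_eq e),
      by rw [TopCat.Presheaf.stalkSpecializes_comp, TopCat.Presheaf.stalkSpecializes_refl],
      by rw [TopCat.Presheaf.stalkSpecializes_comp, TopCat.Presheaf.stalkSpecializes_refl]⟩
  exact RingHom.Flat.comp (RingHom.Flat.of_bijective (ConcreteCategory.bijective_of_isIso
    (Y.presheaf.stalkSpecializes (specializes_of_eq e.symm)))) (Flat.stalkMap h (f' z))

/-- Base change of tor amplitude at a point. -/
theorem torAmplitudeAt_bc (hc : IsPullback g f' f h) {P : CochainComplex X.Modules ℤ}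
    (hP : DCoh.IsKFlat P) {a b : ℤ} (z : X')
    (hk : KeepsQis (bcMap hc z).hom ((DTen.resCx (f.stalkMap (g z)).hom).obj ((stalkCx (g z)).obj P)))
    (ha : DerSch.HasTorAmplitudeAt f a b P (g z)) :
    DerSch.HasTorAmplitudeAt f' a b ((pullCx g).obj P) z := by
  let T := pushout (f.stalkMap (g z)) (bcMap hc z)
  let inl : X.presheaf.stalk (g z) ⟶ T := pushout.inl _ _
  let inr : Y'.presheaf.stalk (f' z) ⟶ T := pushout.inr _ _
  have hT : IsPushout (f.stalkMap (g z)) (bcMap hc z) inl inr := IsPushout.of_hasPushout _ _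
  let σ : T ⟶ X'.presheaf.stalk z := pushout.desc (g.stalkMap z) (f'.stalkMap z) (bcMap_comm hc z)
  have hl : inl ≫ σ = g.stalkMap z := pushout.inl_desc _ _ _
  have hr : inr ≫ σ = f'.stalkMap z := pushout.inr_desc _ _ _
  have hσ := flat_of_pushout_stalk hc z (bcMap_fromSpecStalk hc z) hT hl hr
  refine DRingTor.of_iso (DerivedCategory.Q.mapIso ?_)
    (amp_bc (ψ := (f.stalkMap (g z)).hom) (φ := (bcMap hc z).hom) (β := inl.hom) (α' := inr.hom)
      hT hσ ((kFlat_iff_stalk P).1 hP (g z)) hk ha)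
  have hl' : σ.hom.comp inl.hom = (g.stalkMap z).hom := congrArg CommRingCat.Hom.hom hl
  have hr' : σ.hom.comp inr.hom = (f'.stalkMap z).hom := congrArg CommRingCat.Hom.hom hr
  let S := (stalkCx (g z)).obj P
  let e₁ : (DRingLTensor.extC' σ.hom).obj ((DRingLTensor.extC' inl.hom).obj S) ≅
      (stalkCx z).obj ((pullCx g).obj P) :=
    (extCompIso inl.hom σ.hom S).symm ≪≫ eqToIso (by rw [hl']) ≪≫ (stalkPullCxIso g z P).symm
  refine (DRing.restrictCx inr.hom).mapIso ((DRing.restrictCx σ.hom).mapIso e₁) ≪≫ ?_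
  exact HomologicalComplex.Hom.isoOfComponents
    (fun i => ((ModuleCat.restrictScalarsComp' inr.hom σ.hom (f'.stalkMap z).hom hr'.symm).app
      (((stalkCx z).obj ((pullCx g).obj P)).X i)).symm)
    fun i j _ => ((ModuleCat.restrictScalarsComp' inr.hom σ.hom (f'.stalkMap z).hom hr'.symm).inv.naturality
      (((stalkCx z).obj ((pullCx g).obj P)).d i j)).symm

/-- Flat base change of tor amplitude. -/
theorem torAmplitudeD_flat_bc [Flat h] (hc : IsPullback g f' f h) [DCoh.HasLpull g]
    {F : CochainComplex X.Modules ℤ} {a b : ℤ} (hF : DerSch.HasTorAmplitude f a b F) :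
    DerSch.HasTorAmplitudeD f' a b ((DCoh.Lpull g).obj (DCoh.toD X F)) := by
  obtain ⟨P, hP, ⟨eP⟩, ⟨eL⟩⟩ := exists_lpull_rep g F
  exact hasTorAmplitudeD_of f' eL fun z => torAmplitudeAt_bc hc hP z
    (keepsQis_of_flat (flat_bcMap hc z) _) (torAmplitude_congr f eP.symm hF (g z))

end Groth.Agent.KSix54.Pull
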