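import Groth.Agent.KSix54.Pull.BCScheme
import Groth.Agent.KFlatLib.Perfect.LocFree

/-! Tor amplitude in products over a base with one flat factor. -/

set_option linter.style.haveILetI false

universe u

open CategoryTheory CategoryTheory.Limits AlgebraicGeometry

attribute [local instance] HasDerivedCategory.standard

namespace Groth.Agent.KSix54.Pull

open Groth.Agent.KFlatLib Groth.Agent.H9Misc

variable {S X Y X' Y' Y₁ : Scheme.{u}}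

lemma isFlat_structure (X : Scheme.{u}) : FlatMod.IsFlat (Coh.structureModule X) := fun x =>
  Module.Flat.of_linearEquiv
    ((stalkUnitEquiv x).trans ((stalkToPIso x).app _).toLinearEquiv.symm).symm

lemma vanishesOutside_unitCx (X : Scheme.{u}) : DCoh.VanishesOutside (DerSch.unitCx X) 0 0 :=
  fun i hi => HomologicalComplex.isZero_single_obj_X _ _ _ _ (by omega)

lemma isKFlat_unitCx (X : Scheme.{u}) : DCoh.IsKFlat (DerSch.unitCx X) :=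
  isKFlat_of_vanishesOutside (vanishesOutside_unitCx X) fun i => by
    by_cases hi : i = 0
    · exact KFlatLib.IsFlat.of_iso (HomologicalComplex.singleObjXIsoOfEq _ 0 _ i hi).symm (isFlat_structure X)
    · intro x
      exact flat_of_isZero _ ((DerSch.stalkFunctor X x).map_isZero
        (HomologicalComplex.isZero_single_obj_X _ _ _ _ hi))

set_option backward.isDefEq.respectTransparency false in
/-- Pullback of the structure sheaf in degree zero. -/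
noncomputable def pullUnitCxIso (g : X' ⟶ X) :
    (pullCx g).obj (DerSch.unitCx X) ≅ DerSch.unitCx X' :=
  haveI : IsIso (SheafOfModules.pullbackObjUnitToUnit g.toRingCatSheafHom) := inferInstance
  (HomologicalComplex.singleMapHomologicalComplex (Scheme.Modules.pullback g) _ 0).app _ ≪≫
    (HomologicalComplex.single _ _ 0).mapIso (asIso (SheafOfModules.pullbackObjUnitToUnit g.toRingCatSheafHom))

lemma keepsQis_specializes {q : Y ⟶ S} {q₁ : Y₁ ⟶ S} {h : Y' ⟶ Y} {p₁ : Y' ⟶ Y₁} [Flat q]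
    (hY : IsPullback h p₁ q q₁) (y : Y') (y₂ : Y) (e : h y = y₂)
    (M : DRing.Cx (Y.presheaf.stalk y₂))
    (hM : DRingLTensor.IsKF ((DTen.resCx (q.stalkMap y₂).hom).obj M)) :
    KeepsQis (Y.presheaf.stalkSpecializes (specializes_of_eq e) ≫ h.stalkMap y).hom M := by
  subst e
  rw [TopCat.Presheaf.stalkSpecializes_refl, Category.id_comp]
  let T := pushout (q.stalkMap (h y)) (bcMap hY y)
  let inl : Y.presheaf.stalk (h y) ⟶ T := pushout.inl _ _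
  let inr : Y₁.presheaf.stalk (p₁ y) ⟶ T := pushout.inr _ _
  have hT : IsPushout (q.stalkMap (h y)) (bcMap hY y) inl inr := IsPushout.of_hasPushout _ _
  let σ : T ⟶ Y'.presheaf.stalk y := pushout.desc (h.stalkMap y) (p₁.stalkMap y) (bcMap_comm hY y)
  have hl : inl ≫ σ = h.stalkMap y := pushout.inl_desc _ _ _
  have hσ := flat_of_pushout_stalk hY y (bcMap_fromSpecStalk hY y) hT hl (pushout.inr_desc _ _ _)
  rw [← hl]
  exact keepsQis_of_square (φ := (q.stalkMap (h y)).hom) (ρ := (bcMap hY y).hom) (α := inl.hom)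
    (φ' := inr.hom) hT (Flat.stalkMap q _) hσ hM

/-- Base change of tor amplitude along a tor-independent square of flat schemes over a base. -/
theorem torAmplitudeAt_bc_torIndep {f : X ⟶ Y} {h : Y' ⟶ Y} {g : X' ⟶ X} {f' : X' ⟶ Y'}
    (hc : IsPullback g f' f h) (q : Y ⟶ S) [Flat q] [Flat (f ≫ q)] {q₁ : Y₁ ⟶ S} {p₁ : Y' ⟶ Y₁}
    (hY : IsPullback h p₁ q q₁) {P : CochainComplex X.Modules ℤ} (hP : DCoh.IsKFlat P) {a b : ℤ}
    (z : X') (ha : DerSch.HasTorAmplitudeAt f a b P (g z)) :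
    DerSch.HasTorAmplitudeAt f' a b ((pullCx g).obj P) z := by
  refine torAmplitudeAt_bc hc hP z ?_ ha
  refine keepsQis_specializes hY (f' z) (f (g z)) (congrArg (fun q => q.base z) hc.w).symm _ ?_
  let S₀ := (stalkCx (g z)).obj P
  have h1 : DRingLTensor.IsKF ((DTen.resCx ((f ≫ q).stalkMap (g z)).hom).obj S₀) :=
    isKF_restrict_of_flat (Flat.stalkMap (f ≫ q) _) ((kFlat_iff_stalk P).1 hP (g z))
  refine KFlat.of_iso ?_ h1
  exact HomologicalComplex.Hom.isoOfComponents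
    (fun i => (ModuleCat.restrictScalarsComp' (q.stalkMap (f (g z))).hom (f.stalkMap (g z)).hom
      ((f ≫ q).stalkMap (g z)).hom (congrArg CommRingCat.Hom.hom (Scheme.Hom.stalkMap_comp f q (g z)))).app
        (S₀.X i))
    fun i j _ => ((ModuleCat.restrictScalarsComp' (q.stalkMap (f (g z))).hom (f.stalkMap (g z)).hom
      ((f ≫ q).stalkMap (g z)).hom (congrArg CommRingCat.Hom.hom (Scheme.Hom.stalkMap_comp f q (g z)))).hom.naturality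
        (S₀.d i j)).symm

/-- Base change of tor dimension, flat base. -/
theorem torDimLE_bc {f : X ⟶ Y} {h : Y' ⟶ Y} [Flat h] {g : X' ⟶ X} {f' : X' ⟶ Y'}
    (hc : IsPullback g f' f h) {n : ℕ} (hf : DerSch.HasTorDimLE f n) : DerSch.HasTorDimLE f' n := by
  haveI := hasLpull g
  exact torAmplitude_congr f' (DerivedCategory.Q.mapIso (pullUnitCxIso g)) fun z =>
    torAmplitudeAt_bc hc (isKFlat_unitCx X) z (keepsQis_of_flat (flat_bcMap hc z) _) (hf (g z))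

end Groth.Agent.KSix54.Pull

namespace Groth.Agent.KSix54.Pull

open Groth.Agent.KFlatLib

variable {S X₁ Y₁ X₂ Y₂ X Y : Scheme.{u}}

/-- A product of morphisms factors as a base change of each. -/
theorem exists_prod_factor (f₁ : X₁ ⟶ Y₁) (q₁ : Y₁ ⟶ S) (f₂ : X₂ ⟶ Y₂) (q₂ : Y₂ ⟶ S)
    {pX₁ : X ⟶ X₁} {pX₂ : X ⟶ X₂} (hX : IsPullback pX₁ pX₂ (f₁ ≫ q₁) (f₂ ≫ q₂))
    {pY₁ : Y ⟶ Y₁} {pY₂ : Y ⟶ Y₂} (hY : IsPullback pY₁ pY₂ q₁ q₂)
    {f : X ⟶ Y} (hf₁ : f ≫ pY₁ = pX₁ ≫ f₁) (hf₂ : f ≫ pY₂ = pX₂ ≫ f₂) :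
    ∃ (M : Scheme.{u}) (a : X ⟶ M) (b : M ⟶ Y) (pM₁ : M ⟶ Y₁) (pM₂ : M ⟶ X₂),
      IsPullback pX₁ a f₁ pM₁ ∧ IsPullback pM₂ b f₂ pY₂ ∧ IsPullback pM₁ pM₂ q₁ (f₂ ≫ q₂) ∧
        b ≫ pY₁ = pM₁ ∧ a ≫ pM₂ = pX₂ ∧ a ≫ b = f := by
  let pM₁ := pullback.fst q₁ (f₂ ≫ q₂)
  let pM₂ := pullback.snd q₁ (f₂ ≫ q₂)
  have hM : IsPullback pM₁ pM₂ q₁ (f₂ ≫ q₂) := IsPullback.of_hasPullback _ _
  let a : X ⟶ pullback q₁ (f₂ ≫ q₂) :=
    pullback.lift (pX₁ ≫ f₁) pX₂ ((Category.assoc _ _ _).trans hX.w)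
  have ha₁ : a ≫ pM₁ = pX₁ ≫ f₁ := pullback.lift_fst _ _ _
  have ha₂ : a ≫ pM₂ = pX₂ := pullback.lift_snd _ _ _
  let b : pullback q₁ (f₂ ≫ q₂) ⟶ Y := hY.lift pM₁ (pM₂ ≫ f₂) (hM.w.trans (Category.assoc _ _ _).symm)
  have hb₁ : b ≫ pY₁ = pM₁ := hY.lift_fst _ _ _
  have hb₂ : b ≫ pY₂ = pM₂ ≫ f₂ := hY.lift_snd _ _ _
  refine ⟨_, a, b, pM₁, pM₂, IsPullback.of_bot ?_ ha₁.symm hM, IsPullback.of_bot ?_ hb₂.symm hY.flip,
    hM, hb₁, ha₂, ?_⟩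
  · rw [ha₂]; exact hX
  · rw [hb₁]; exact hM.flip
  · apply hY.hom_ext
    · rw [Category.assoc, hb₁, ha₁, hf₁]
    · rw [Category.assoc, hb₂, ← Category.assoc, ha₂, hf₂]

/-- Tor dimension of a product. -/
theorem torDimLE_prod (f₁ : X₁ ⟶ Y₁) (q₁ : Y₁ ⟶ S) (f₂ : X₂ ⟶ Y₂) (q₂ : Y₂ ⟶ S)
    [Flat q₂] [Flat (f₂ ≫ q₂)]
    {pX₁ : X ⟶ X₁} {pX₂ : X ⟶ X₂} (hX : IsPullback pX₁ pX₂ (f₁ ≫ q₁) (f₂ ≫ q₂))
    {pY₁ : Y ⟶ Y₁} {pY₂ : Y ⟶ Y₂} (hY : IsPullback pY₁ pY₂ q₁ q₂)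
    {f : X ⟶ Y} (hf₁ : f ≫ pY₁ = pX₁ ≫ f₁) (hf₂ : f ≫ pY₂ = pX₂ ≫ f₂)
    {n₁ n₂ : ℕ} (h₁ : DerSch.HasTorDimLE f₁ n₁) (h₂ : DerSch.HasTorDimLE f₂ n₂) :
    DerSch.HasTorDimLE f (n₁ + n₂) := by
  obtain ⟨M, a, b, pM₁, pM₂, s₁, s₂, hM, -, -, rfl⟩ := exists_prod_factor f₁ q₁ f₂ q₂ hX hY hf₁ hf₂
  haveI : Flat pM₁ := MorphismProperty.of_isPullback hM.flip (inferInstanceAs (Flat (f₂ ≫ q₂)))
  have ha : DerSch.HasTorDimLE a n₁ := torDimLE_bc s₁ h₁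
  have hb : DerSch.HasTorDimLE b n₂ :=
    torAmplitude_congr b (DerivedCategory.Q.mapIso (pullUnitCxIso pM₂)) fun z =>
      torAmplitudeAt_bc_torIndep s₂ q₂ hY.flip (isKFlat_unitCx X₂) z (h₂ (pM₂ z))
  exact fun x => H9Misc.DRingTor.mono (by omega) le_rfl (torAmplitude_comp ha hb x)

end Groth.Agent.KSix54.Pull
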