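import Groth.Agent.KSix54.Pull.Scheme
import Groth.Agent.KFlatLib.Ring.BaseChangePushout
import Groth.Agent.H9Misc.DRingLBase

/-! Base change of tor amplitude along squares of rings. -/

set_option linter.style.haveILetI false

universe u

open CategoryTheory CategoryTheory.Limits MonoidalCategory

open scoped TensorProduct

attribute [local instance] HasDerivedCategory.standard

namespace Groth.Agent.KSix54.Pull

open Groth.Agent.KFlatLib Groth.Agent.H9Misc Groth.Agent.H9Misc.DRingLTensor

variable {R A R' A' C T C' : Type u} [CommRing R] [CommRing A] [CommRing R'] [CommRing A']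
  [CommRing C] [CommRing T] [CommRing C']

/-- Extension of scalars along `φ` keeps quasi-isomorphisms from K-flat complexes to `M`. -/
def KeepsQis (φ : A →+* A') (M : DRing.Cx A) : Prop :=
  ∀ (X : DRing.Cx A) (s : X ⟶ M), IsKF X → QuasiIso s → QuasiIso ((extC' φ).map s)

/-- Base change of tor amplitude. -/
theorem amp_extend {φ : A →+* A'} {M : DRing.Cx A} (hk : KeepsQis φ M) {a b : ℤ}
    (h : DRing.HasTorAmplitudeIn A a b (DRing.toD M)) :
    DRing.HasTorAmplitudeIn A' a b (DRing.toD ((extC' φ).obj M)) := by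
  haveI := DRingLBase.hasLBaseChange φ
  let s := (ringCover A).ψ.app M
  have hs : QuasiIso s := (ringCover A).quasiIso_ψ M
  have hs' := hk _ s (kFlat_ringRes M) hs
  obtain ⟨e⟩ := DRingLBase.nonempty_lbase_iso φ (kFlat_ringRes M)
  have h1 : IsIso (DerivedCategory.Q.map s) := (DerivedCategory.isIso_Q_map_iff_quasiIso _ _).2 hs
  have h2 : IsIso (DerivedCategory.Q.map ((extC' φ).map s)) :=
    (DerivedCategory.isIso_Q_map_iff_quasiIso _ _).2 hs'
  exact DRingTor.of_iso ((DRing.LBaseChange φ).mapIso (@asIso _ _ _ _ (DerivedCategory.Q.map s) h1).symm ≪≫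
      e ≪≫ @asIso _ _ _ _ (DerivedCategory.Q.map ((extC' φ).map s)) h2)
    (DRingLBase.hasTorAmplitudeIn_lbase φ h)

lemma quasiIso_extend_flat {φ : A →+* A'} (hφ : φ.Flat) {X M : DRing.Cx A} (s : X ⟶ M) [QuasiIso s] :
    QuasiIso ((extC' φ).map s) := by
  haveI := ModuleCat.preservesFiniteLimits_extendScalars_of_flat hφ
  haveI : PreservesFiniteColimits (ModuleCat.extendScalars.{u, u, u} φ) := by
    haveI : (ModuleCat.extendScalars.{u, u, u} φ).IsLeftAdjoint :=
      (ModuleCat.extendRestrictScalarsAdj φ).isLeftAdjoint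
    infer_instance
  infer_instance

theorem keepsQis_of_flat {φ : A →+* A'} (hφ : φ.Flat) (M : DRing.Cx A) : KeepsQis φ M :=
  fun _ s _ hs => haveI := hs; quasiIso_extend_flat hφ s

/-- A K-flat complex over a flat algebra is K-flat over the base. -/
theorem isKF_restrict_of_flat {φ : R →+* A} (hφ : φ.Flat) {M : DRing.Cx A} (hM : IsKF M) :
    IsKF ((DTen.resCx φ).obj M) := by
  refine kFlat_iff.2 fun L hL => ?_
  haveI := ModuleCat.preservesFiniteLimits_extendScalars_of_flat hφ
  haveI : PreservesFiniteColimits (ModuleCat.extendScalars.{u, u, u} φ) := by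
    haveI : (ModuleCat.extendScalars.{u, u, u} φ).IsLeftAdjoint :=
      (ModuleCat.extendRestrictScalarsAdj φ).isLeftAdjoint
    infer_instance
  have hL' : ((extC' φ).obj L).Acyclic := fun i => (hL i).map (ModuleCat.extendScalars.{u, u, u} φ)
  have h := acyclic_of_iso (braid ((extC' φ).obj L) M) (hM.acyclic hL')
  have h' : ((DTen.resCx φ).obj (M ⊗ (extC' φ).obj L)).Acyclic := fun i =>
    (h i).map (ModuleCat.restrictScalars φ)
  exact acyclic_of_iso (projIso φ M L ≪≫ braid _ L) h'

/-- Composite extensions of scalars. -/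
noncomputable def extCompIso (α : A →+* A') (τ : A' →+* C') (X : DRing.Cx A) :
    (extC' (τ.comp α)).obj X ≅ (extC' τ).obj ((extC' α).obj X) :=
  HomologicalComplex.Hom.isoOfComponents (fun i => (ModuleCat.extendScalarsComp α τ).app (X.X i))
    fun i j _ => ((ModuleCat.extendScalarsComp α τ).hom.naturality (X.d i j)).symm

lemma quasiIso_extC_comp (α : A →+* A') (τ : A' →+* C') {X M : DRing.Cx A} (s : X ⟶ M)
    (h : QuasiIso ((extC' τ).map ((extC' α).map s))) : QuasiIso ((extC' (τ.comp α)).map s) := by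
  haveI := h
  have : (extC' (τ.comp α)).map s =
      (extCompIso α τ X).hom ≫ (extC' τ).map ((extC' α).map s) ≫ (extCompIso α τ M).inv := by
    rw [← Category.assoc, Iso.eq_comp_inv]
    ext i : 1
    exact (ModuleCat.extendScalarsComp α τ).hom.naturality (s.f i)
  rw [this]
  infer_instance

lemma flat_of_isZero (M : ModuleCat.{u} A) (h : IsZero M) : Module.Flat A M :=
  haveI := ModuleCat.subsingleton_of_isZero h
  inferInstance

lemma flat_restrict {σ : A →+* A'} (hσ : σ.Flat) (M : ModuleCat.{u} A') [Module.Flat A' M] :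
    Module.Flat A ((ModuleCat.restrictScalars σ).obj M) := by
  letI : Algebra A A' := σ.toAlgebra
  haveI : Module.Flat A A' := hσ
  letI : Module A M := Module.compHom _ σ
  haveI : IsScalarTower A A' M := IsScalarTower.of_algebraMap_smul fun _ _ => rfl
  exact (Module.Flat.trans A A' M : Module.Flat A M)

section Square

variable {φ : R →+* A} {ρ : R →+* R'} {α : A →+* A'} {φ' : R' →+* A'}

/-- `A'` is the pushout of `A` and `R'` over `R`. -/
def IsSquare (φ : R →+* A) (ρ : R →+* R') (α : A →+* A') (φ' : R' →+* A') : Prop :=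
  CategoryTheory.IsPushout (CommRingCat.ofHom φ) (CommRingCat.ofHom ρ) (CommRingCat.ofHom α)
    (CommRingCat.ofHom φ')

lemma IsSquare.comm (h : IsSquare φ ρ α φ') : α.comp φ = φ'.comp ρ :=
  congrArg CommRingCat.Hom.hom h.toCommSq.w

lemma isIso_sqCx_of_isSquare (h : IsSquare φ ρ α φ') (M : DRing.Cx A) : IsIso (sqCx h.comm M) := by
  letI := φ.toAlgebra
  letI := ρ.toAlgebra
  letI := α.toAlgebra
  letI := φ'.toAlgebra
  letI : Algebra R A' := (α.comp φ).toAlgebra
  haveI : IsScalarTower R A A' := IsScalarTower.of_algebraMap_eq fun _ => rfl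
  haveI : IsScalarTower R R' A' := IsScalarTower.of_algebraMap_eq fun r => RingHom.congr_fun h.comm r
  haveI : Algebra.IsPushout R A R' A' := CommRingCat.isPushout_iff_isPushout.1 h
  haveI : Algebra.IsPushout R R' A A' := Algebra.IsPushout.symm inferInstance
  haveI : ∀ i, IsIso ((sqCx h.comm M).f i) := fun i => isIso_sqMod h.comm rfl rfl rfl rfl (M.X i)
  exact HomologicalComplex.Hom.isIso_of_components (sqCx h.comm M)

/-- Over a tor-independent square base change keeps quasi-isomorphisms. -/
theorem keepsQis_of_square (h : IsSquare φ ρ α φ') (hφ : φ.Flat) {τ : A' →+* C'} (hτ : τ.Flat)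
    {M : DRing.Cx A} (hM : IsKF ((DTen.resCx φ).obj M)) : KeepsQis (τ.comp α) M := by
  intro X s hX hs
  haveI := hs
  haveI : QuasiIso ((DTen.resCx φ).map s) := inferInstance
  haveI : QuasiIso ((DTen.extCx ρ).map ((DTen.resCx φ).map s)) :=
    KFlatLib.quasiIso_extendScalars ρ ((DTen.resCx φ).map s) (isKF_restrict_of_flat hφ hX) hM
  haveI := isIso_sqCx_of_isSquare h X
  haveI := isIso_sqCx_of_isSquare h M
  have hnat : (DTen.extCx ρ).map ((DTen.resCx φ).map s) ≫ sqCx h.comm M =
      sqCx h.comm X ≫ (DTen.resCx φ').map ((DTen.extCx α).map s) := by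
    ext i : 1
    exact sqMod_natural h.comm (s.f i)
  haveI : QuasiIso ((DTen.resCx φ').map ((DTen.extCx α).map s)) := by
    haveI : QuasiIso (sqCx h.comm X ≫ (DTen.resCx φ').map ((DTen.extCx α).map s)) := by
      rw [← hnat]
      infer_instance
    exact quasiIso_of_comp_left (sqCx h.comm X) _
  haveI : QuasiIso ((DTen.extCx α).map s) :=
    (HomologicalComplex.quasiIso_map_iff_of_preservesHomology _ (ModuleCat.restrictScalars φ')).1 inferInstance
  exact quasiIso_extC_comp α τ s (quasiIso_extend_flat hτ ((extC' α).map s))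

end Square

/-- Base change of amplitude to an algebra flat over the pushout. -/
theorem amp_bc {φ : A →+* A'} {ψ : A →+* C} {α' : A' →+* T} {β : C →+* T}
    (h : IsSquare ψ φ β α') {σ : T →+* C'} (hσ : σ.Flat) {P : DRing.Cx C} (hP : IsKF P)
    (hk : KeepsQis φ ((DTen.resCx ψ).obj P)) {a b : ℤ}
    (ha : DRing.HasTorAmplitudeIn A a b (DRing.toD ((DRing.restrictCx ψ).obj P))) :
    DRing.HasTorAmplitudeIn A' a b (DRing.toD ((DRing.restrictCx α').obj ((DRing.restrictCx σ).obj
      ((extC' σ).obj ((extC' β).obj P))))) := by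
  have hL : DRing.HasTorAmplitudeIn A' a b (DRing.toD ((DRing.restrictCx α').obj ((extC' β).obj P))) :=
    DRingTor.of_iso (DerivedCategory.Q.mapIso (@asIso _ _ _ _ (sqCx h.comm P) (isIso_sqCx_of_isSquare h P))) (amp_extend hk ha)
  let W := (HomologicalComplex.single (ModuleCat.{u} C') (ComplexShape.up ℤ) 0).obj (𝟙_ (ModuleCat.{u} C'))
  have hW : DRing.HasTorAmplitudeIn T 0 0 (DRing.toD ((DRing.restrictCx σ).obj W)) := by
    refine ⟨_, fun i hi => (ModuleCat.restrictScalars σ).map_isZero
      (HomologicalComplex.isZero_single_obj_X _ _ _ _ (by omega)), fun i => ?_, ⟨Iso.refl _⟩⟩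
    haveI : Module.Flat C' (W.X i) := by
      by_cases hi : i = 0
      · subst hi
        haveI : Module.Flat C' (𝟙_ (ModuleCat.{u} C') : Type u) := inferInstanceAs (Module.Flat C' C')
        exact Module.Flat.of_linearEquiv
          (HomologicalComplex.singleObjXSelf (ComplexShape.up ℤ) 0 (𝟙_ (ModuleCat.{u} C'))).toLinearEquiv
      · exact flat_of_isZero _ (HomologicalComplex.isZero_single_obj_X _ _ _ _ hi)
    exact flat_restrict hσ (W.X i)
  refine DRingTor.mono (a := 0 + a) (b := 0 + b) (by omega) (by omega) (DRingTor.of_iso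
    (DerivedCategory.Q.mapIso ?_) (amp_tensor_extend α' σ hW (KFlatLib.kFlat_extendScalars β hP) hL))
  exact (DRing.restrictCx α').mapIso ((DRing.restrictCx σ).mapIso (tensorUnitIso _))

end Groth.Agent.KSix54.Pull
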