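import Groth.Agent.KSix54.Pull.Tensor
import Groth.Agent.KSix54.AmpLocal

/-! Cohomological bounds for derived tensor products from relative tor amplitude. -/

set_option linter.style.haveILetI false

universe u

open CategoryTheory CategoryTheory.Limits AlgebraicGeometry MonoidalCategory

attribute [local instance] HasDerivedCategory.standard

namespace Groth.Agent.KSix54.Pull

open Groth.Agent.KFlatLib Groth.Agent.H9Misc Groth.Agent.H9Misc.DRingLTensor

/-- Cohomological bounds of `(C ⊗_B L) ⊗_C W`. -/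
theorem exactAt_tensor_extend {B C : Type u} [CommRing B] [CommRing C] (ψ : B →+* C)
    {W : DRing.Cx C} {L : DRing.Cx B} {a b c d : ℤ}
    (hW : DRing.HasTorAmplitudeIn B a b (DRing.toD ((DRing.restrictCx ψ).obj W)))
    (hLf : IsKF L) (hL : ∀ j, (j < c ∨ d < j) → L.ExactAt j) (i : ℤ) (hi : i < a + c ∨ b + d < i) :
    ((extC' ψ).obj L ⊗ W).ExactAt i := by
  obtain ⟨E, hEz, hEf, ⟨e⟩⟩ := hW
  obtain ⟨e'⟩ := nonempty_tensor_iso hLf e
  have hE : IsKF E := DRingTor.isKF_of_flat hEf fun i hi => hEz i (Or.inr hi)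
  have key : (E ⊗ L).ExactAt i := by
    haveI : L.IsLE d := (CochainComplex.isLE_iff L d).2 fun j hj => hL j (Or.inr hj)
    haveI : L.IsGE c := (CochainComplex.isGE_iff L c).2 fun j hj => hL j (Or.inl hj)
    let L₁ := L.truncLE d
    haveI : L₁.IsGE c := (CochainComplex.isGE_iff L₁ c).2 fun j hj =>
      (DRingTorLTensor.exactAt_iff_of_quasiIso (L.ιTruncLE d) j).2 (hL j (Or.inl hj))
    haveI h1 : QuasiIso (((curriedTensor (ModuleCat.{u} B)).map₂CochainComplex.obj E).map (L.ιTruncLE d)) :=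
      quasiIso_tensorHom_id _ hE
    haveI h2 : QuasiIso (((curriedTensor (ModuleCat.{u} B)).map₂CochainComplex.obj E).map (L₁.πTruncGE c)) :=
      quasiIso_tensorHom_id _ hE
    refine (DRingTorLTensor.exactAt_iff_of_quasiIso
      (((curriedTensor (ModuleCat.{u} B)).map₂CochainComplex.obj E).map (L.ιTruncLE d)) i).1 ?_
    refine (DRingTorLTensor.exactAt_iff_of_quasiIso
      (((curriedTensor (ModuleCat.{u} B)).map₂CochainComplex.obj E).map (L₁.πTruncGE c)) i).2 ?_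
    refine ShortComplex.exact_of_isZero_X₂ _ ?_
    rcases hi with hi | hi
    · exact DRingLTensorCx.vanishesBelow_tensor (P := E) (fun j hj => hEz j (Or.inl hj))
        (fun j hj => CochainComplex.isZero_of_isStrictlyGE (L₁.truncGE c) c j hj) i hi
    · exact DRingLTensorCx.vanishesAbove_tensor (P := E) (fun j hj => hEz j (Or.inr hj))
        (fun j hj => CochainComplex.isZero_of_isStrictlyLE (L₁.truncGE c) d j hj) i hi
  have h1 : IsZero (((DRing.restrictCx ψ).obj W ⊗ L).homology i) :=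
    ((HomologicalComplex.exactAt_iff_isZero_homology _ _).1 key).of_iso
      (((DerivedCategory.homologyFunctorFactors _ i).app _).symm ≪≫
        (DerivedCategory.homologyFunctor _ i).mapIso e'.symm ≪≫
        (DerivedCategory.homologyFunctorFactors _ i).app _)
  have h2 : ((DRing.restrictCx ψ).obj ((extC' ψ).obj L ⊗ W)).ExactAt i :=
    ((HomologicalComplex.exactAt_iff_isZero_homology _ _).2 h1).of_iso
      ((projIso ψ W L).symm ≪≫ (DRing.restrictCx ψ).mapIso (braid W ((extC' ψ).obj L)))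
  exact (ShortComplex.exact_map_iff_of_faithful _ (ModuleCat.restrictScalars ψ)).1 h2

variable {X Y Z : Scheme.{u}}

/-- Cohomological bounds of `Lf^* G ⊗^L F`. -/
theorem exactAt_tensor_pull (f : X ⟶ Y) {F : CochainComplex X.Modules ℤ} {G : CochainComplex Y.Modules ℤ}
    {a b c d : ℤ} (hF : DerSch.HasTorAmplitude f a b F) (hG : DCoh.IsKFlat G)
    (hGx : ∀ j, (j < c ∨ d < j) → G.ExactAt j) (i : ℤ) (hi : i < a + c ∨ b + d < i) :
    ((DCoh.tensorCx.obj ((pullCx f).obj G)).obj F).ExactAt i := by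
  refine (KFlatLib.exact_iff_stalk _).2 fun x => ?_
  have h := exactAt_tensor_extend (W := (stalkCx x).obj F) (f.stalkMap x).hom (hF x)
    ((kFlat_iff_stalk G).1 hG (f.base x))
    (fun j hj => (KFlatLib.exact_iff_stalk _).1 (hGx j hj) (f.base x)) i hi
  exact h.of_iso (((curriedTensor (ModuleCat.{u} (X.presheaf.stalk x))).map₂CochainComplex.mapIso
      (stalkPullCxIso f x G).symm).app ((stalkCx x).obj F) ≪≫ stalkTensorCxIso x _ F)

lemma exactAt_of_iso_toD {F G : CochainComplex X.Modules ℤ} (e : DCoh.toD X F ≅ DCoh.toD X G) (i : ℤ)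
    (h : G.ExactAt i) : F.ExactAt i :=
  (HomologicalComplex.exactAt_iff_isZero_homology _ _).2
    (((HomologicalComplex.exactAt_iff_isZero_homology _ _).1 h).of_iso
      (((DerivedCategory.homologyFunctorFactors X.Modules i).app F).symm ≪≫
        (DerivedCategory.homologyFunctor X.Modules i).mapIso e ≪≫
        (DerivedCategory.homologyFunctorFactors X.Modules i).app G))

lemma isZero_HD_of_exactAt {F : CochainComplex X.Modules ℤ} {K : DCoh.D X} (e : DCoh.toD X F ≅ K) (i : ℤ)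
    (h : F.ExactAt i) : IsZero (DCoh.HD K i) :=
  ((HomologicalComplex.exactAt_iff_isZero_homology _ _).1 h).of_iso
    ((DerivedCategory.homologyFunctor X.Modules i).mapIso e.symm ≪≫
      (DerivedCategory.homologyFunctorFactors X.Modules i).app F)

lemma exactAt_of_isZero_HD {F : CochainComplex X.Modules ℤ} {K : DCoh.D X} (e : DCoh.toD X F ≅ K) (i : ℤ)
    (h : IsZero (DCoh.HD K i)) : F.ExactAt i :=
  (HomologicalComplex.exactAt_iff_isZero_homology _ _).2
    (h.of_iso (((DerivedCategory.homologyFunctorFactors X.Modules i).app F).symm ≪≫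
      (DerivedCategory.homologyFunctor X.Modules i).mapIso e))

lemma exactAt_pull_flat (f : X ⟶ Y) [Flat f] {G : CochainComplex Y.Modules ℤ} {i : ℤ} (h : G.ExactAt i) :
    ((pullCx f).obj G).ExactAt i := by
  refine (KFlatLib.exact_iff_stalk _).2 fun x => ?_
  haveI := ModuleCat.preservesFiniteLimits_extendScalars_of_flat (Flat.stalkMap f x)
  haveI : PreservesFiniteColimits (ModuleCat.extendScalars.{u, u, u} (f.stalkMap x).hom) := by
    haveI : (ModuleCat.extendScalars.{u, u, u} (f.stalkMap x).hom).IsLeftAdjoint :=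
      (ModuleCat.extendRestrictScalarsAdj (f.stalkMap x).hom).isLeftAdjoint
    infer_instance
  have h' : ((extC' (f.stalkMap x).hom).obj ((stalkCx (f.base x)).obj G)).ExactAt i :=
    ((KFlatLib.exact_iff_stalk _).1 h (f.base x)).map (ModuleCat.extendScalars.{u, u, u} (f.stalkMap x).hom)
  exact h'.of_iso (stalkPullCxIso f x G).symm

/-- Amplitude over the local rings of an open subscheme. -/
theorem torAmplitudeAt_of_comp_openImm {f : X ⟶ Y} {j : Y ⟶ Z} [IsOpenImmersion j] {a b : ℤ}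
    {F : CochainComplex X.Modules ℤ} {x : X} (h : DerSch.HasTorAmplitudeAt (f ≫ j) a b F x) :
    DerSch.HasTorAmplitudeAt f a b F x := by
  obtain ⟨E, hz, hf, ⟨e⟩⟩ := h
  let φ := j.stalkMap (f.base x)
  let F₁ := ModuleCat.restrictScalars.{u} (inv φ).hom
  have hinv : ((inv φ).hom).Flat := RingHom.Flat.of_bijective (ConcreteCategory.bijective_of_isIso (inv φ))
  refine ⟨(F₁.mapHomologicalComplex _).obj E, fun i hi => F₁.map_isZero (hz i hi),
    fun i => @flat_restrict _ _ _ _ (inv φ).hom hinv (E.X i) (hf i),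
    ⟨(F₁.mapDerivedCategoryFactors.app E).symm ≪≫ F₁.mapDerivedCategory.mapIso e ≪≫
      F₁.mapDerivedCategoryFactors.app _ ≪≫ DerivedCategory.Q.mapIso ?_⟩⟩
  have hφ : φ.hom.comp (inv φ).hom = RingHom.id _ := congrArg CommRingCat.Hom.hom (IsIso.inv_hom_id φ)
  refine (F₁.mapHomologicalComplex _).mapIso (stalkCxCompIso f j x F) ≪≫ ?_
  let S := (DRing.restrictCx (f.stalkMap x).hom).obj ((stalkCx x).obj F)
  exact HomologicalComplex.Hom.isoOfComponents
    (fun i => ((ModuleCat.restrictScalarsComp' (inv φ).hom φ.hom _ hφ.symm).app (S.X i)).symm ≪≫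
      (ModuleCat.restrictScalarsId' (RingHom.id _) rfl).app (S.X i))
    fun i k _ => by
      simp only [Iso.trans_hom, Category.assoc]
      ext m
      rfl

/-- The tor amplitude bounds the Tor sheaves. -/
theorem isZero_HD_tor {f : X ⟶ Y} {m n : ℤ} {F : CochainComplex X.Modules ℤ}
    (hF : DerSch.HasTorAmplitude f m n F) (V : Y.Opens) (M : (V : Scheme.{u}).Modules)
    [DCoh.HasLpull (f ∣_ V)] [DCoh.HasLTensorCx ((DCoh.restrictCx (f ⁻¹ᵁ V)).obj F)]
    (i : ℤ) (hi : i < m ∨ n < i) :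
    IsZero (DCoh.HD ((DCoh.LTensorCx ((DCoh.restrictCx (f ⁻¹ᵁ V)).obj F)).obj
      ((DCoh.Lpull (f ∣_ V)).obj (DCoh.inD (V : Scheme.{u}) M))) i) := by
  let F' := (DCoh.restrictCx (f ⁻¹ᵁ V)).obj F
  have hF' : DerSch.HasTorAmplitude (f ∣_ V) m n F' := fun x =>
    torAmplitudeAt_of_comp_openImm (j := V.ι)
      (torAmplitudeAt_congr_hom (morphismRestrict_ι f V).symm
        ((torAmplitudeAt_restrict_iff (f ⁻¹ᵁ V).ι f m n F x).2 (hF _)))
  let S := (HomologicalComplex.single (V : Scheme.{u}).Modules (ComplexShape.up ℤ) 0).obj M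
  obtain ⟨P, hP, ⟨eP⟩⟩ := exists_kflat_rep S
  obtain ⟨c⟩ := nonempty_ltensorX_iso F' (isKFlat_pullback (f ∣_ V) hP)
    ((lpullKFIso (f ∣_ V) hP).symm ≪≫ (DCoh.Lpull (f ∣_ V)).mapIso
      (eP ≪≫ ((DerivedCategory.singleFunctorIsoCompQ (V : Scheme.{u}).Modules 0).app M).symm))
    (Iso.refl (DCoh.toD _ F'))
  refine isZero_HD_of_exactAt c.symm i (exactAt_tensor_pull (f ∣_ V) hF' hP (c := 0) (d := 0)
    (fun j hj => exactAt_of_iso_toD eP j ((HomologicalComplex.exactAt_iff_isZero_homology _ _).2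
      (HomologicalComplex.isZero_single_obj_homology _ _ _ _ (by omega)))) i (by omega))

section Prod

variable {S X₁ Y₁ X₂ Y₂ : Scheme.{u}}

/-- Cohomological bounds of an external tensor product, flat first factor. -/
theorem bounds_prod (f₁ : X₁ ⟶ Y₁) (q₁ : Y₁ ⟶ S) (f₂ : X₂ ⟶ Y₂) (q₂ : Y₂ ⟶ S)
    [Flat q₁] [Flat (f₁ ≫ q₁)]
    {pX₁ : X ⟶ X₁} {pX₂ : X ⟶ X₂} (hX : IsPullback pX₁ pX₂ (f₁ ≫ q₁) (f₂ ≫ q₂))
    {pY₁ : Y ⟶ Y₁} {pY₂ : Y ⟶ Y₂} (hY : IsPullback pY₁ pY₂ q₁ q₂)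
    {f : X ⟶ Y} (hf₁ : f ≫ pY₁ = pX₁ ≫ f₁) (hf₂ : f ≫ pY₂ = pX₂ ≫ f₂)
    {E₁ : CochainComplex X₁.Modules ℤ} {a₁ b₁ : ℤ} (h₁ : DerSch.HasTorAmplitude f₁ a₁ b₁ E₁)
    (E₂ : CochainComplex X₂.Modules ℤ) {a₂ b₂ : ℤ} [hge : (DCoh.toD X₂ E₂).IsGE a₂]
    [hle : (DCoh.toD X₂ E₂).IsLE b₂]
    [DCoh.HasLpull pX₁] [DCoh.HasLpull pX₂] (K₂ : CochainComplex X.Modules ℤ) [DCoh.HasLTensorCx K₂]
    (e : DCoh.toD X K₂ ≅ (DCoh.Lpull pX₂).obj (DCoh.toD X₂ E₂)) (i : ℤ)
    (hi : i < a₁ + a₂ ∨ b₁ + b₂ < i) :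
    IsZero (DCoh.HD ((DCoh.LTensorCx K₂).obj ((DCoh.Lpull pX₁).obj (DCoh.toD X₁ E₁))) i) := by
  obtain ⟨M, a, b, pM₁, pM₂, s₁, s₂, hM, -, hapM, -⟩ := exists_prod_factor f₁ q₁ f₂ q₂ hX hY hf₁ hf₂
  haveI : Flat pM₂ := MorphismProperty.of_isPullback hM (inferInstanceAs (Flat q₁))
  obtain ⟨P₁, hP₁, ⟨e₁⟩⟩ := exists_kflat_rep E₁
  obtain ⟨P₂, hP₂, ⟨e₂⟩⟩ := exists_kflat_rep E₂
  let F := (pullCx pX₁).obj P₁
  let G := (pullCx pM₂).obj P₂
  have hF : DerSch.HasTorAmplitude a a₁ b₁ F := fun z =>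
    torAmplitudeAt_bc_torIndep s₁ q₁ hM hP₁ z (torAmplitude_congr f₁ e₁.symm h₁ (pX₁ z))
  have hG : ∀ j, (j < a₂ ∨ b₂ < j) → G.ExactAt j := fun j hj =>
    exactAt_pull_flat pM₂ (exactAt_of_isZero_HD e₂ j (hj.elim
      (fun h => (DerivedCategory.isGE_iff _ a₂).1 hge j h) fun h => (DerivedCategory.isLE_iff _ b₂).1 hle j h))
  obtain ⟨c₂⟩ := nonempty_ltensorX_iso K₂ (isKFlat_pullback pX₁ hP₁)
    ((lpullKFIso pX₁ hP₁).symm ≪≫ (DCoh.Lpull pX₁).mapIso e₁)
    ((lpullKFIso pX₂ hP₂).symm ≪≫ (DCoh.Lpull pX₂).mapIso e₂ ≪≫ e.symm)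
  refine isZero_HD_of_exactAt c₂.symm i ((exactAt_tensor_pull a hF (isKFlat_pullback pM₂ hP₂) hG i hi).of_iso ?_)
  exact braidX _ _ ≪≫ (DCoh.tensorCx.obj F).mapIso (pullCxCompIso a pM₂ pX₂ hapM P₂)

end Prod

end Groth.Agent.KSix54.Pull
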