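import Groth.Agent.H9Misc.DRingTorLTensor

/-! Tor amplitude of a base change tensored with a complex over the larger ring. -/

set_option linter.style.haveILetI false

universe u

open CategoryTheory CategoryTheory.Limits MonoidalCategory

attribute [local instance] HasDerivedCategory.standard

namespace Groth.Agent.KSix54.Pull

open Groth.Agent.KFlatLib Groth.Agent.H9Misc Groth.Agent.H9Misc.DRingLTensor

variable {A B C : Type u} [CommRing A] [CommRing B] [CommRing C]

/-- Symmetry of the tensor product of complexes. -/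
noncomputable def braid (P Q : DRing.Cx A) : P ⊗ Q ≅ Q ⊗ P :=
  (symmIso (T := curriedTensor (ModuleCat.{u} A)) curriedTensorFlipIso Q).app P

/-- The projection formula. -/
noncomputable def projIso (ψ : B →+* C) (W : DRing.Cx C) (L : DRing.Cx B) :
    ((ModuleCat.restrictScalars ψ).mapHomologicalComplex (ComplexShape.up ℤ)).obj (W ⊗ (extC' ψ).obj L) ≅
      ((ModuleCat.restrictScalars ψ).mapHomologicalComplex (ComplexShape.up ℤ)).obj W ⊗ L :=
  let e₁ : (((curriedTensor (ModuleCat.{u} C)).map₂CochainComplex.obj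
      (((𝟭 (ModuleCat.{u} C)).mapHomologicalComplex (ComplexShape.up ℤ)).obj W)).obj
        (((ModuleCat.extendScalars ψ).mapHomologicalComplex (ComplexShape.up ℤ)).obj L)) ≅
      ((𝟭 (ModuleCat.{u} C)).mapHomologicalComplex (ComplexShape.up ℤ)).obj
        (((extT ψ).map₂CochainComplex.obj W).obj L) :=
    totalMapIso (Φ₁ := 𝟭 (ModuleCat.{u} C)) (Φ₂ := ModuleCat.extendScalars ψ)
      (Ψ := 𝟭 (ModuleCat.{u} C)) (T := extT ψ) (T' := curriedTensor (ModuleCat.{u} C))
      (Iso.refl _) W L
  ((ModuleCat.restrictScalars ψ).mapHomologicalComplex (ComplexShape.up ℤ)).mapIso e₁ ≪≫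
    (totalMapIso (extTIso ψ) W L).symm

/-- Tensoring with a K-flat complex is well defined on the derived category. -/
lemma nonempty_tensor_iso {P : DRing.Cx A} (hP : IsKF P) {E E' : DRing.Cx A}
    (e : DerivedCategory.Q.obj E ≅ DerivedCategory.Q.obj E') :
    Nonempty (DerivedCategory.Q.obj (E ⊗ P) ≅ DerivedCategory.Q.obj (E' ⊗ P)) := by
  obtain ⟨X, s, hs, g, hg⟩ := DerivedCategory.right_fac e.hom
  haveI := (DerivedCategory.isIso_Q_map_iff_quasiIso _ _).1 hs
  haveI : IsIso (DerivedCategory.Q.map g) := by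
    have : DerivedCategory.Q.map g = DerivedCategory.Q.map s ≫ e.hom := by simp [hg]
    rw [this]
    infer_instance
  haveI : QuasiIso g := (DerivedCategory.isIso_Q_map_iff_quasiIso _ _).1 inferInstance
  let T := curriedTensor (ModuleCat.{u} A)
  haveI : QuasiIso ((T.map₂CochainComplex.map s).app P) := hP.quasiIso_map s
  haveI : QuasiIso ((T.map₂CochainComplex.map g).app P) := hP.quasiIso_map g
  have h1 : IsIso (DerivedCategory.Q.map ((T.map₂CochainComplex.map s).app P)) :=
    (DerivedCategory.isIso_Q_map_iff_quasiIso _ _).2 inferInstance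
  have h2 : IsIso (DerivedCategory.Q.map ((T.map₂CochainComplex.map g).app P)) :=
    (DerivedCategory.isIso_Q_map_iff_quasiIso _ _).2 inferInstance
  exact ⟨(@asIso _ _ _ _ (DerivedCategory.Q.map ((T.map₂CochainComplex.map s).app P)) h1).symm ≪≫
    @asIso _ _ _ _ (DerivedCategory.Q.map ((T.map₂CochainComplex.map g).app P)) h2⟩

/-- The amplitude over `A` of `(C ⊗_B L) ⊗_C W`. -/
theorem amp_tensor_extend (φ : A →+* B) (ψ : B →+* C) {W : DRing.Cx C} {L : DRing.Cx B}
    {a b c d : ℤ} (hW : DRing.HasTorAmplitudeIn B a b (DRing.toD ((DRing.restrictCx ψ).obj W)))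
    (hLf : IsKF L) (hL : DRing.HasTorAmplitudeIn A c d (DRing.toD ((DRing.restrictCx φ).obj L))) :
    DRing.HasTorAmplitudeIn A (a + c) (b + d) (DRing.toD ((DRing.restrictCx φ).obj
      ((DRing.restrictCx ψ).obj ((extC' ψ).obj L ⊗ W)))) := by
  obtain ⟨E, hz, hf, ⟨e⟩⟩ := hW
  obtain ⟨e'⟩ := nonempty_tensor_iso hLf e
  let F := ModuleCat.restrictScalars.{u} φ
  refine DRingTor.of_iso ?_ (DRingTorLTensor.hasTorAmplitudeIn_tensor φ E L hz hf hL)
  exact (F.mapDerivedCategoryFactors.app _).symm ≪≫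
    F.mapDerivedCategory.mapIso (e' ≪≫ DerivedCategory.Q.mapIso
      ((projIso ψ W L).symm ≪≫ (DRing.restrictCx ψ).mapIso (braid W ((extC' ψ).obj L)))) ≪≫
    F.mapDerivedCategoryFactors.app _

end Groth.Agent.KSix54.Pull
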