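import Groth.Agent.KSix54.Pull.Ring
import Groth.Agent.KSix54.AmpComp
import Groth.Agent.KFlatLib.Scheme.Amplitude

/-! Relative tor amplitude of derived pullbacks and tensor products. -/

set_option linter.style.haveILetI false

universe u

open CategoryTheory CategoryTheory.Limits AlgebraicGeometry MonoidalCategory

attribute [local instance] HasDerivedCategory.standard

namespace Groth.Agent.KSix54.Pull

open Groth.Agent.KFlatLib Groth.Agent.H9Misc

variable {X Y Z : Scheme.{u}} (f : X ⟶ Y) (g : Y ⟶ Z)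

/-- Derived pullback is computed by K-flat resolutions. -/
lemma exists_lpull_rep [DCoh.HasLpull f] (G : CochainComplex Y.Modules ℤ) :
    ∃ P : CochainComplex Y.Modules ℤ, DCoh.IsKFlat P ∧ Nonempty (DCoh.toD Y P ≅ DCoh.toD Y G) ∧
      Nonempty (DCoh.toD X ((pullCx f).obj P) ≅ (DCoh.Lpull f).obj (DCoh.toD Y G)) := by
  have hP := isKFlat_kRes G
  haveI := isIso_lpullComparison f hP
  let e : DCoh.toD Y ((kRes Y).obj G) ≅ DCoh.toD Y G :=
    @asIso _ _ _ _ (DerivedCategory.Q.map ((flatCover Y).ψ.app G))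
      (isIso_Q_map _ ((flatCover Y).quasiIso_ψ G))
  exact ⟨_, hP, ⟨e⟩, ⟨(asIso ((lpullComparison f).app _)).symm ≪≫ (DCoh.Lpull f).mapIso e⟩⟩

/-- The stalk complex over the base of a composite. -/
noncomputable def stalkCxCompIso (x : X) (F : CochainComplex X.Modules ℤ) :
    (DerSch.stalkCxOver (f ≫ g) x).obj F ≅
      (DRing.restrictCx (g.stalkMap (f.base x)).hom).obj
        ((DRing.restrictCx (f.stalkMap x).hom).obj ((stalkCx x).obj F)) :=
  HomologicalComplex.Hom.isoOfComponents (fun i => (stalkOverCompIso f g x).app (F.X i))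
    fun i j _ => ((stalkOverCompIso f g x).hom.naturality (F.d i j)).symm

/-- The amplitude at a point of `Lf^* G ⊗ F`. -/
theorem amp_stalk {F : CochainComplex X.Modules ℤ} {P : CochainComplex Y.Modules ℤ}
    {a b c d : ℤ} (x : X) (hF : DerSch.HasTorAmplitudeAt f a b F x) (hP : DCoh.IsKFlat P)
    (hG : DerSch.HasTorAmplitudeAt g c d P (f.base x)) :
    DRing.HasTorAmplitudeIn (Z.presheaf.stalk (g.base (f.base x))) (a + c) (b + d)
      (DRing.toD ((DRing.restrictCx (g.stalkMap (f.base x)).hom).obj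
        ((DRing.restrictCx (f.stalkMap x).hom).obj
          ((DRingLTensor.extC' (f.stalkMap x).hom).obj ((stalkCx (f.base x)).obj P) ⊗
            (stalkCx x).obj F)))) :=
  amp_tensor_extend (g.stalkMap (f.base x)).hom (f.stalkMap x).hom hF
    ((kFlat_iff_stalk P).1 hP (f.base x)) hG

/-- Tor amplitude of a derived tensor product with a derived pullback. -/
theorem torAmplitudeD_tensor_lpull {F : CochainComplex X.Modules ℤ} {G : CochainComplex Y.Modules ℤ}
    {a b c d : ℤ} (hF : DerSch.HasTorAmplitude f a b F) (hG : DerSch.HasTorAmplitude g c d G)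
    [DCoh.HasLpull f] [DCoh.HasLTensorCx F] :
    DerSch.HasTorAmplitudeD (f ≫ g) (a + c) (b + d)
      ((DCoh.LTensorCx F).obj ((DCoh.Lpull f).obj (DCoh.toD Y G))) := by
  obtain ⟨P, hP, ⟨eP⟩, ⟨eL⟩⟩ := exists_lpull_rep f G
  have hP' := torAmplitude_congr g eP.symm hG
  let K := (pullCx f).obj P
  haveI := isIso_LTensorCx_counit F (isKFlat_pullback f hP)
  refine hasTorAmplitudeD_of (f ≫ g)
    ((@asIso _ _ _ _ (((DCoh.tensorCxQ F).totalLeftDerivedCounit DerivedCategory.Q (qisX X)).app K)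
      inferInstance).symm ≪≫ (DCoh.LTensorCx F).mapIso eL) fun x => ?_
  refine DRingTor.of_iso (DerivedCategory.Q.mapIso ?_) (amp_stalk f g x (hF x) hP (hP' (f.base x)))
  refine ?_ ≪≫ (stalkCxCompIso f g x _).symm
  exact (DRing.restrictCx _).mapIso ((DRing.restrictCx _).mapIso
    (((curriedTensor (ModuleCat.{u} (X.presheaf.stalk x))).map₂CochainComplex.mapIso
        (stalkPullCxIso f x P).symm).app ((stalkCx x).obj F) ≪≫ stalkTensorCxIso x K F))

/-- The stalk of the structure sheaf as a complex. -/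
noncomputable def stalkUnitCxIso (x : X) :
    (stalkCx x).obj (DerSch.unitCx X) ≅
      (HomologicalComplex.single (ModuleCat.{u} (X.presheaf.stalk x)) (ComplexShape.up ℤ) 0).obj
        (𝟙_ (ModuleCat.{u} (X.presheaf.stalk x))) :=
  (HomologicalComplex.singleMapHomologicalComplex (DerSch.stalkFunctor X x) (ComplexShape.up ℤ) 0).app
      (Coh.structureModule X) ≪≫
    (HomologicalComplex.single _ _ 0).mapIso
      ((stalkToPIso x).app _ ≪≫ (stalkUnitEquiv x).toModuleIso.symm)

/-- Tensoring with the unit complex. -/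
noncomputable def tensorUnitIso {A : Type u} [CommRing A] (K : DRing.Cx A) :
    K ⊗ (HomologicalComplex.single (ModuleCat.{u} A) (ComplexShape.up ℤ) 0).obj (𝟙_ (ModuleCat.{u} A)) ≅ K :=
  (singleIso (curriedTensor (ModuleCat.{u} A)) (𝟙_ (ModuleCat.{u} A))).app K ≪≫
    HomologicalComplex.Hom.isoOfComponents (fun i => ρ_ (K.X i))
      fun i j _ => (rightUnitor_naturality (K.d i j)).symm

/-- Tor amplitude of a derived pullback. -/
theorem torAmplitudeD_lpull {G : CochainComplex Y.Modules ℤ} {m : ℕ} {c d : ℤ}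
    (hf : DerSch.HasTorDimLE f m) (hG : DerSch.HasTorAmplitude g c d G) [DCoh.HasLpull f] :
    DerSch.HasTorAmplitudeD (f ≫ g) (c - m) d ((DCoh.Lpull f).obj (DCoh.toD Y G)) := by
  obtain ⟨P, hP, ⟨eP⟩, ⟨eL⟩⟩ := exists_lpull_rep f G
  have hP' := torAmplitude_congr g eP.symm hG
  refine hasTorAmplitudeD_of (f ≫ g) eL fun x => ?_
  refine DRingTor.mono (a := -(m : ℤ) + c) (b := 0 + d) (by omega) (by omega)
    (DRingTor.of_iso (DerivedCategory.Q.mapIso ?_) (amp_stalk f g x (hf x) hP (hP' (f.base x))))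
  refine ?_ ≪≫ (stalkCxCompIso f g x _).symm
  exact (DRing.restrictCx _).mapIso ((DRing.restrictCx _).mapIso
    ((((curriedTensor (ModuleCat.{u} (X.presheaf.stalk x))).map₂CochainComplex.obj _).mapIso
        (stalkUnitCxIso x)) ≪≫ tensorUnitIso _ ≪≫ (stalkPullCxIso f x P).symm))

end Groth.Agent.KSix54.Pull
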