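import Groth.Agent.KSix54.Pull.TorInd
import Groth.Agent.KFlatLib.Scheme.Derived
import Groth.Agent.KFlatLib.Scheme.LpullComp

/-! Computing derived tensor products of derived pullbacks. -/

set_option linter.style.haveILetI false

universe u

open CategoryTheory CategoryTheory.Limits AlgebraicGeometry

attribute [local instance] HasDerivedCategory.standard

namespace Groth.Agent.KSix54.Pull

open Groth.Agent.KFlatLib

variable {X Y Z : Scheme.{u}}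

/-- Symmetry of the tensor product. -/
noncomputable def braidX (P Q : CochainComplex X.Modules ℤ) :
    (DCoh.tensorCx.obj P).obj Q ≅ (DCoh.tensorCx.obj Q).obj P :=
  (symmIso (tensorBiFlipIso X) Q).app P

/-- Tensoring with a K-flat complex is well defined on the derived category. -/
lemma nonempty_tensorX_iso {L : CochainComplex X.Modules ℤ} (hL : DCoh.IsKFlat L)
    {G G' : CochainComplex X.Modules ℤ} (e : DCoh.toD X G ≅ DCoh.toD X G') :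
    Nonempty (DCoh.toD X ((DCoh.tensorCx.obj L).obj G) ≅ DCoh.toD X ((DCoh.tensorCx.obj L).obj G')) := by
  obtain ⟨W, s, hs, g, hg⟩ := DerivedCategory.right_fac e.hom
  haveI := hs
  haveI : QuasiIso s := (DerivedCategory.isIso_Q_map_iff_quasiIso (C := X.Modules) _).1 hs
  have hg' : IsIso (DerivedCategory.Q.map g) := by
    have : DerivedCategory.Q.map g = DerivedCategory.Q.map s ≫ e.hom := by simp [hg]
    rw [this]
    infer_instance
  haveI : QuasiIso g := (DerivedCategory.isIso_Q_map_iff_quasiIso (C := X.Modules) _).1 hg'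
  have h1 := isIso_Q_map ((DCoh.tensorCx.obj L).map s)
    ((kFlat_iff_isKFlat.2 hL).quasiIso_map' (tensorBiFlipIso X) s)
  have h2 := isIso_Q_map ((DCoh.tensorCx.obj L).map g)
    ((kFlat_iff_isKFlat.2 hL).quasiIso_map' (tensorBiFlipIso X) g)
  exact ⟨(@asIso _ _ _ _ (DerivedCategory.Q.map ((DCoh.tensorCx.obj L).map s)) h1).symm ≪≫
    @asIso _ _ _ _ (DerivedCategory.Q.map ((DCoh.tensorCx.obj L).map g)) h2⟩

/-- `K ⊗^L E` computed with a K-flat representative of `K` and any representative of `E`. -/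
lemma nonempty_ltensorX_iso (E : CochainComplex X.Modules ℤ) [DCoh.HasLTensorCx E]
    {P : CochainComplex X.Modules ℤ} (hP : DCoh.IsKFlat P) {K : DCoh.D X} (eK : DCoh.toD X P ≅ K)
    {E' : CochainComplex X.Modules ℤ} (eE : DCoh.toD X E' ≅ DCoh.toD X E) :
    Nonempty ((DCoh.LTensorCx E).obj K ≅ DCoh.toD X ((DCoh.tensorCx.obj P).obj E')) := by
  haveI := isIso_LTensorCx_counit E hP
  obtain ⟨e⟩ := nonempty_tensorX_iso hP eE
  exact ⟨(DCoh.LTensorCx E).mapIso eK.symm ≪≫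
    asIso (((DCoh.tensorCxQ E).totalLeftDerivedCounit DerivedCategory.Q (qisX X)).app P) ≪≫ e.symm⟩

/-- `Lf^*` of a K-flat complex. -/
noncomputable def lpullKFIso (f : X ⟶ Y) [DCoh.HasLpull f] {P : CochainComplex Y.Modules ℤ}
    (hP : DCoh.IsKFlat P) : (DCoh.Lpull f).obj (DCoh.toD Y P) ≅ DCoh.toD X ((pullCx f).obj P) :=
  haveI := isIso_lpullComparison f hP
  asIso ((lpullComparison f).app P)

/-- Pullback of complexes along a composite. -/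
noncomputable def pullCxCompIso (f : X ⟶ Y) (g : Y ⟶ Z) (h : X ⟶ Z) (w : f ≫ g = h)
    (P : CochainComplex Z.Modules ℤ) : (pullCx f).obj ((pullCx g).obj P) ≅ (pullCx h).obj P :=
  HomologicalComplex.Hom.isoOfComponents
    (fun i => ((Scheme.Modules.pullbackComp f g) ≪≫ Scheme.Modules.pullbackCongr w).app (P.X i))
    fun i j _ => (((Scheme.Modules.pullbackComp f g) ≪≫ Scheme.Modules.pullbackCongr w).hom.naturality
      (P.d i j)).symm

/-- A K-flat resolution. -/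
lemma exists_kflat_rep (F : CochainComplex X.Modules ℤ) :
    ∃ P : CochainComplex X.Modules ℤ, DCoh.IsKFlat P ∧ Nonempty (DCoh.toD X P ≅ DCoh.toD X F) :=
  ⟨_, isKFlat_kRes F, ⟨@asIso _ _ _ _ (DerivedCategory.Q.map ((flatCover X).ψ.app F))
    (isIso_Q_map _ ((flatCover X).quasiIso_ψ F))⟩⟩

section Prod

variable {S X₁ Y₁ X₂ Y₂ : Scheme.{u}}

/-- Tor amplitude of an external tensor product, flat second factor. -/
theorem torAmplitudeD_prod (f₁ : X₁ ⟶ Y₁) (q₁ : Y₁ ⟶ S) (f₂ : X₂ ⟶ Y₂) (q₂ : Y₂ ⟶ S)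
    [Flat q₂] [Flat (f₂ ≫ q₂)]
    {pX₁ : X ⟶ X₁} {pX₂ : X ⟶ X₂} (hX : IsPullback pX₁ pX₂ (f₁ ≫ q₁) (f₂ ≫ q₂))
    {pY₁ : Y ⟶ Y₁} {pY₂ : Y ⟶ Y₂} (hY : IsPullback pY₁ pY₂ q₁ q₂)
    {f : X ⟶ Y} (hf₁ : f ≫ pY₁ = pX₁ ≫ f₁) (hf₂ : f ≫ pY₂ = pX₂ ≫ f₂)
    {E₁ : CochainComplex X₁.Modules ℤ} {a₁ b₁ : ℤ} (h₁ : DerSch.HasTorAmplitude f₁ a₁ b₁ E₁)
    {E₂ : CochainComplex X₂.Modules ℤ} {a₂ b₂ : ℤ} (h₂ : DerSch.HasTorAmplitude f₂ a₂ b₂ E₂)
    [DCoh.HasLpull pX₁] [DCoh.HasLpull pX₂] (K₂ : CochainComplex X.Modules ℤ) [DCoh.HasLTensorCx K₂]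
    (e : DCoh.toD X K₂ ≅ (DCoh.Lpull pX₂).obj (DCoh.toD X₂ E₂)) :
    DerSch.HasTorAmplitudeD f (a₁ + a₂) (b₁ + b₂)
      ((DCoh.LTensorCx K₂).obj ((DCoh.Lpull pX₁).obj (DCoh.toD X₁ E₁))) := by
  obtain ⟨M, a, b, pM₁, pM₂, s₁, s₂, hM, -, hapM, rfl⟩ := exists_prod_factor f₁ q₁ f₂ q₂ hX hY hf₁ hf₂
  haveI : Flat pM₁ := MorphismProperty.of_isPullback hM.flip (inferInstanceAs (Flat (f₂ ≫ q₂)))
  obtain ⟨P₁, hP₁, ⟨e₁⟩⟩ := exists_kflat_rep E₁
  obtain ⟨P₂, hP₂, ⟨e₂⟩⟩ := exists_kflat_rep E₂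
  let F := (pullCx pX₁).obj P₁
  let G := (pullCx pM₂).obj P₂
  have hF : DerSch.HasTorAmplitude a a₁ b₁ F := fun z =>
    torAmplitudeAt_bc s₁ hP₁ z (keepsQis_of_flat (flat_bcMap s₁ z) _)
      (torAmplitude_congr f₁ e₁.symm h₁ (pX₁ z))
  have hG : DerSch.HasTorAmplitude b a₂ b₂ G := fun z =>
    torAmplitudeAt_bc_torIndep s₂ q₂ hY.flip hP₂ z (torAmplitude_congr f₂ e₂.symm h₂ (pM₂ z))
  haveI := hasLpull a
  haveI := hasLTensorCx F
  have hT := torAmplitudeD_tensor_lpull a b hF hG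
  obtain ⟨c₁⟩ := nonempty_ltensorX_iso F (isKFlat_pullback a (isKFlat_pullback pM₂ hP₂))
    (lpullKFIso a (isKFlat_pullback pM₂ hP₂)).symm (Iso.refl (DCoh.toD X F))
  obtain ⟨c₂⟩ := nonempty_ltensorX_iso K₂ (isKFlat_pullback pX₁ hP₁)
    ((lpullKFIso pX₁ hP₁).symm ≪≫ (DCoh.Lpull pX₁).mapIso e₁)
    ((lpullKFIso pX₂ hP₂).symm ≪≫ (DCoh.Lpull pX₂).mapIso e₂ ≪≫ e.symm)
  have c₃ : (DCoh.tensorCx.obj ((pullCx a).obj G)).obj F ≅
      (DCoh.tensorCx.obj F).obj ((pullCx pX₂).obj P₂) :=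
    braidX _ _ ≪≫ (DCoh.tensorCx.obj F).mapIso (pullCxCompIso a pM₂ pX₂ hapM P₂)
  exact fun K ⟨eK⟩ => hT K ⟨eK ≪≫ c₂ ≪≫ (DerivedCategory.Q.mapIso c₃).symm ≪≫ c₁.symm⟩

end Prod

end Groth.Agent.KSix54.Pull
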